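import Cfsg.Prelude.Def_Classical
import Cfsg.Agent.Lib.Forms.Quad
import Cfsg.Agent.Lib.Involutions.Basic

/-!
# The orthogonal groups in dimension two

The isometry group of `x y` is dihedral of order `2(q-1)`, that of an anisotropic binary form
`x² + a x y + b y²` dihedral of order `2(q+1)`.
-/

set_option autoImplicit false

namespace Cfsg.Agent.Lib.OrthTwo.Binary

open Matrix

variable {F : Type*} [Field F]

/-- A group made of a cyclic subgroup and one coset of an inverting involution is dihedral. -/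
theorem dihedral_of {G : Type*} [Group G] {r s : G} {n : ℕ} (hr : orderOf r = n)
    (hs : s * s = 1) (hsr : ∀ k : ℤ, s ≠ r ^ k) (hinv : s * r * s = r⁻¹)
    (hall : ∀ g : G, ∃ k : ℤ, g = r ^ k ∨ g = s * r ^ k) :
    Nonempty (G ≃* DihedralGroup n) := by
  have hx : orderOf s = 2 := Involutions.Basic.invol_iff.mpr ⟨hs, by simpa using hsr 0⟩
  have hy : orderOf (s * r) = 2 := Involutions.Basic.invol_iff.mpr
    ⟨by rw [← mul_assoc, hinv, inv_mul_cancel], fun h => hsr (-1) (by
      rw [_root_.zpow_neg_one]; exact eq_inv_of_mul_eq_one_left h)⟩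
  have hxy : s * (s * r) = r := by rw [← mul_assoc, hs, one_mul]
  have htop : Subgroup.closure ({s, s * r} : Set G) = ⊤ := by
    rw [eq_top_iff]
    intro g _
    rw [Involutions.Basic.mem_closure_pair hs (Involutions.Basic.invol_mul_self hy), hxy]
    exact hall g
  subst hr
  have e := Involutions.Basic.closurePairEquiv hx hy
  rw [hxy] at e
  exact ⟨Subgroup.topEquiv.symm.trans ((MulEquiv.subgroupCongr htop.symm).trans e)⟩

variable {ι κ : Type} [Fintype ι] [DecidableEq ι] [Fintype κ] [DecidableEq κ]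

/-- Reindexing the general linear group. -/
def glReindex (e : ι ≃ κ) : Matrix.GeneralLinearGroup ι F ≃* Matrix.GeneralLinearGroup κ F :=
  Units.mapEquiv (Matrix.reindexAlgEquiv F F e).toMulEquiv

theorem glReindex_mulVec (e : ι ≃ κ) (g : Matrix.GeneralLinearGroup ι F) (v : κ → F) :
    (glReindex e g).1 *ᵥ v = (g.1 *ᵥ (v ∘ e)) ∘ e.symm := by
  show (g.1.submatrix e.symm e.symm) *ᵥ v = _
  rw [Matrix.submatrix_mulVec_equiv, Equiv.symm_symm]

/-- Isometry groups of reindexed forms. -/
theorem nonempty_isometry_reindex (e : ι ≃ κ) (f : (ι → F) → F) (f' : (κ → F) → F)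
    (h : ∀ v, f' v = f (v ∘ e)) :
    Nonempty (Cfsg.isometryGroup F f ≃* Cfsg.isometryGroup F f') := by
  have hmap : (Cfsg.isometryGroup F f).map (glReindex e).toMonoidHom =
      Cfsg.isometryGroup F f' := by
    ext g
    rw [Subgroup.mem_map_equiv]
    constructor
    · intro hg u w
      show f' (g.1 *ᵥ u) = f' u
      have h1 := glReindex_mulVec e ((glReindex e).symm g) u
      rw [MulEquiv.apply_symm_apply] at h1
      rw [h1, h, h, Function.comp_assoc, Equiv.symm_comp_self, Function.comp_id]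
      exact hg (u ∘ e) (u ∘ e)
    · intro hg u w
      show f (((glReindex e).symm g).1 *ᵥ u) = f u
      have h1 := glReindex_mulVec e ((glReindex e).symm g) (u ∘ e.symm)
      rw [MulEquiv.apply_symm_apply, Function.comp_assoc, Equiv.symm_comp_self,
        Function.comp_id] at h1
      have h2 : f' (g.1 *ᵥ (u ∘ e.symm)) = f' (u ∘ e.symm) :=
        hg (u ∘ e.symm) (u ∘ e.symm)
      rwa [h1, h, h, Function.comp_assoc, Function.comp_assoc, Equiv.symm_comp_self,
        Function.comp_id, Function.comp_id] at h2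
  exact ⟨((Cfsg.isometryGroup F f).equivMapOfInjective _ (glReindex e).injective).trans
    (MulEquiv.subgroupCongr hmap)⟩

theorem mulVec_fin_two (M : Matrix (Fin 2) (Fin 2) F) (v : Fin 2 → F) (i : Fin 2) :
    (M *ᵥ v) i = M i 0 * v 0 + M i 1 * v 1 := by
  simp [Matrix.mulVec, dotProduct, Fin.sum_univ_two]

/-- The form `x y`. -/
def qh (v : Fin 2 → F) : F := v 0 * v 1

/-- The form `x² + a x y + b y²`. -/
def qb (a b : F) (v : Fin 2 → F) : F := v 0 ^ 2 + a * v 0 * v 1 + b * v 1 ^ 2

/-! ### Plus type -/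

/-- `diag(t, t⁻¹)`. -/
def torus (t : Fˣ) : Matrix.GeneralLinearGroup (Fin 2) F :=
  ⟨!![(t : F), 0; 0, ((t⁻¹ : Fˣ) : F)], !![((t⁻¹ : Fˣ) : F), 0; 0, (t : F)],
    by rw [Matrix.mul_fin_two, Matrix.one_fin_two]; simp,
    by rw [Matrix.mul_fin_two, Matrix.one_fin_two]; simp⟩

/-- The coordinate swap. -/
def swapGL : Matrix.GeneralLinearGroup (Fin 2) F :=
  ⟨!![(0 : F), 1; 1, 0], !![(0 : F), 1; 1, 0],
    by rw [Matrix.mul_fin_two, Matrix.one_fin_two]; simp,
    by rw [Matrix.mul_fin_two, Matrix.one_fin_two]; simp⟩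

theorem torus_mem (t : Fˣ) : torus t ∈ Cfsg.isometryGroup F (qh (F := F)) := by
  intro u w
  show qh (_ *ᵥ u) = qh u
  simp [qh, mulVec_fin_two, torus]
  field_simp

theorem swapGL_mem : swapGL ∈ Cfsg.isometryGroup F (qh (F := F)) := by
  intro u w
  show qh (_ *ᵥ u) = qh u
  simp [qh, mulVec_fin_two, swapGL, mul_comm]

/-- The torus as a homomorphism into the isometry group. -/
def torusHom : Fˣ →* Cfsg.isometryGroup F (qh (F := F)) where
  toFun t := ⟨torus t, torus_mem t⟩
  map_one' := by
    apply Subtype.ext; apply Units.ext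
    show !![((1 : Fˣ) : F), 0; 0, (((1 : Fˣ)⁻¹ : Fˣ) : F)] = (1 : Matrix (Fin 2) (Fin 2) F)
    rw [Matrix.one_fin_two]; simp
  map_mul' s t := by
    apply Subtype.ext; apply Units.ext
    show !![((s * t : Fˣ) : F), 0; 0, (((s * t)⁻¹ : Fˣ) : F)] = _ * _
    simp [torus, Matrix.mul_fin_two, mul_comm]

theorem dihedral_plus [Fintype F] {q : ℕ} (hq : Fintype.card F = q) :
    Nonempty (Cfsg.isometryGroup F (qh (F := F)) ≃* DihedralGroup (q - 1)) := by
  obtain ⟨t, ht⟩ := IsCyclic.exists_generator (α := Fˣ)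
  let r := torusHom t
  let s : Cfsg.isometryGroup F (qh (F := F)) := ⟨swapGL, swapGL_mem⟩
  have hinj : Function.Injective (torusHom (F := F)) := fun a b h => Units.ext <| by
    have := congrArg (fun g : Cfsg.isometryGroup F (qh (F := F)) => g.1.1 0 0) h
    simpa [torusHom, torus] using this
  refine dihedral_of (r := r) (s := s) ?_ ?_ ?_ ?_ ?_
  · rw [orderOf_injective _ hinj, orderOf_eq_card_of_forall_mem_zpowers ht, Nat.card_units,
      Nat.card_eq_fintype_card, hq]
  · apply Subtype.ext; apply Units.ext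
    show !![(0 : F), 1; 1, 0] * !![(0 : F), 1; 1, 0] = 1
    rw [Matrix.mul_fin_two, Matrix.one_fin_two]; simp
  · intro k h
    rw [← map_zpow] at h
    have := congrArg (fun g : Cfsg.isometryGroup F (qh (F := F)) => g.1.1 0 0) h
    simp [s, torusHom, torus, swapGL] at this
    exact zpow_ne_zero k t.ne_zero this.symm
  · rw [← map_inv]
    apply Subtype.ext; apply Units.ext
    show !![(0 : F), 1; 1, 0] * !![(t : F), 0; 0, ((t⁻¹ : Fˣ) : F)] * !![(0 : F), 1; 1, 0]
      = !![((t⁻¹ : Fˣ) : F), 0; 0, (((t⁻¹)⁻¹ : Fˣ) : F)]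
    simp [Matrix.mul_fin_two]
  · intro g
    have h1 : ∀ v, qh (g.1.1 *ᵥ v) = qh v := fun v => g.2 v v
    have e00 : g.1.1 0 0 * g.1.1 1 0 = 0 := by simpa [qh, mulVec_fin_two] using h1 ![1, 0]
    have e11 : g.1.1 0 1 * g.1.1 1 1 = 0 := by simpa [qh, mulVec_fin_two] using h1 ![0, 1]
    have e01 : (g.1.1 0 0 + g.1.1 0 1) * (g.1.1 1 0 + g.1.1 1 1) = 1 := by
      simpa [qh, mulVec_fin_two] using h1 ![1, 1]
    have hx : g.1.1 0 0 * g.1.1 1 1 + g.1.1 0 1 * g.1.1 1 0 = 1 := by
      linear_combination e01 - e00 - e11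
    rcases mul_eq_zero.mp e00 with h0 | h0
    · -- anti-diagonal
      have hne : g.1.1 0 1 * g.1.1 1 0 = 1 := by rw [h0] at hx; simpa using hx
      have h11 : g.1.1 1 1 = 0 :=
        (mul_eq_zero.mp e11).resolve_left (left_ne_zero_of_mul_eq_one hne)
      obtain ⟨k, hk⟩ := Subgroup.mem_zpowers_iff.mp
        (ht (Units.mkOfMulEqOne (g.1.1 1 0) (g.1.1 0 1) (by linear_combination hne)))
      refine ⟨k, Or.inr ?_⟩
      rw [← map_zpow, hk]
      apply Subtype.ext; apply Units.ext
      show g.1.1 = !![(0 : F), 1; 1, 0] * _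
      ext i j
      fin_cases i <;> fin_cases j <;>
        simp [torusHom, torus, Matrix.mul_apply, Fin.sum_univ_two, h0, h11,
          eq_inv_of_mul_eq_one_left hne]
    · have hne : g.1.1 0 0 * g.1.1 1 1 = 1 := by rw [h0] at hx; simpa using hx
      have h01 : g.1.1 0 1 = 0 :=
        (mul_eq_zero.mp e11).resolve_right (right_ne_zero_of_mul_eq_one hne)
      obtain ⟨k, hk⟩ := Subgroup.mem_zpowers_iff.mp
        (ht (Units.mkOfMulEqOne (g.1.1 0 0) (g.1.1 1 1) hne))
      refine ⟨k, Or.inl ?_⟩
      rw [← map_zpow, hk]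
      apply Subtype.ext; apply Units.ext
      show g.1.1 = _
      ext i j
      fin_cases i <;> fin_cases j <;>
        simp [torusHom, torus, h0, h01, eq_inv_of_mul_eq_one_right hne]

/-! ### Minus type -/

variable {a b : F}

/-- The matrix of multiplication by `x + y ω`, where `ω² = a ω - b`. -/
def rot (a b : F) (v : Fin 2 → F) : Matrix (Fin 2) (Fin 2) F :=
  !![v 0, -(b * v 1); v 1, v 0 + a * v 1]

theorem det_rot (v : Fin 2 → F) : (rot a b v).det = qb a b v := by
  simp [rot, qb, Matrix.det_fin_two_of]; ring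

theorem qb_rot (v w : Fin 2 → F) : qb a b (rot a b v *ᵥ w) = qb a b v * qb a b w := by
  simp [rot, qb, mulVec_fin_two]; ring

theorem rot_mul (v w : Fin 2 → F) :
    rot a b v * rot a b w = rot a b (rot a b v *ᵥ w) := by
  rw [rot, rot, rot, Matrix.mul_fin_two]
  ext i j
  fin_cases i <;> fin_cases j <;> simp [mulVec_fin_two] <;> ring

theorem rot_one : rot a b ![1, 0] = 1 := by
  simp [rot, Matrix.one_fin_two]

theorem qb_one : qb a b ![(1 : F), 0] = 1 := by simp [qb]

theorem disc_ne (hab : ∀ z₁ z₂ : F, z₁ ^ 2 + a * z₁ * z₂ + b * z₂ ^ 2 = 0 → z₁ = 0 ∧ z₂ = 0)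
    [Finite F] : 4 * b - a ^ 2 ≠ 0 := by
  intro h
  by_cases h2 : (2 : F) = 0
  · have ha : a = 0 := by
      have h4 : a ^ 2 = 0 := by linear_combination -h + 2 * b * h2
      exact pow_eq_zero_iff two_ne_zero |>.mp h4
    obtain ⟨r, hr⟩ := Cfsg.Agent.Lib.Forms.exists_sqrt h2 b
    exact one_ne_zero (hab r 1 (by rw [ha]; linear_combination hr + b * h2)).2
  · exact one_ne_zero (α := F) (hab (-a / 2) 1 (by field_simp; linear_combination h)).2

theorem exists_qb_eq [Finite F]
    (hab : ∀ z₁ z₂ : F, z₁ ^ 2 + a * z₁ * z₂ + b * z₂ ^ 2 = 0 → z₁ = 0 ∧ z₂ = 0) (c : F) :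
    ∃ v, qb a b v = c := by
  by_cases h2 : (2 : F) = 0
  · obtain ⟨r, hr⟩ := Cfsg.Agent.Lib.Forms.exists_sqrt h2 c
    exact ⟨![r, 0], by simp [qb]; linear_combination hr⟩
  · have h4 : (4 : F) ≠ 0 := by
      rw [show (4 : F) = 2 * 2 by norm_num]; exact mul_ne_zero h2 h2
    obtain ⟨x, y, h⟩ := Cfsg.Agent.Lib.Forms.exists_sq_add_sq h2
      (A := (1 : F)) (B := (4 * b - a ^ 2) / 4) one_ne_zero
      (div_ne_zero (disc_ne hab) h4) c
    refine ⟨![x - a / 2 * y, y], ?_⟩
    rw [← h]
    simp [qb]
    field_simp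
    ring

/-- Coordinates of norm one. -/
abbrev NormOne (a b : F) := {v : Fin 2 → F // qb a b v = 1}

theorem card_normOne [Fintype F] {q : ℕ} (hq : Fintype.card F = q)
    (hab : ∀ z₁ z₂ : F, z₁ ^ 2 + a * z₁ * z₂ + b * z₂ ^ 2 = 0 → z₁ = 0 ∧ z₂ = 0) :
    Nat.card (NormOne a b) = q + 1 := by
  classical
  have hne : ∀ v : Fin 2 → F, qb a b v = 0 → v = 0 := fun v hv => by
    have := hab (v 0) (v 1) hv
    funext i; fin_cases i
    · exact this.1
    · exact this.2
  let S : Subgroup (Matrix.GeneralLinearGroup (Fin 2) F) :=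
    { carrier := {g | ∃ v, g.1 = rot a b v}
      one_mem' := ⟨![1, 0], rot_one.symm⟩
      mul_mem' := by
        rintro g h ⟨v, hv⟩ ⟨w, hw⟩
        exact ⟨rot a b v *ᵥ w, by rw [Units.val_mul, hv, hw, rot_mul]⟩
      inv_mem' := by
        rintro g ⟨v, hv⟩
        have hq0 : qb a b v ≠ 0 := by
          rw [← det_rot, ← hv]
          exact Matrix.GeneralLinearGroup.det_ne_zero g
        refine ⟨(qb a b v)⁻¹ • ![v 0 + a * v 1, -v 1], ?_⟩
        rw [Matrix.coe_units_inv, hv]
        refine Matrix.inv_eq_right_inv ?_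
        rw [rot_mul, ← rot_one (a := a) (b := b)]
        congr 1
        funext i
        fin_cases i <;> simp [rot, mulVec_fin_two] <;> field_simp <;> simp [qb] <;> ring }
  let e : S ≃ {v : Fin 2 → F // v ≠ 0} :=
    { toFun := fun g => ⟨fun i => g.1.1 i 0, by
        obtain ⟨v, hv⟩ := g.2
        intro h
        have hv0 : v = 0 := by
          funext i
          have := congrFun h i
          rw [hv] at this
          fin_cases i <;> simpa [rot] using this
        have := Matrix.GeneralLinearGroup.det_ne_zero g.1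
        rw [hv, det_rot, hv0] at this
        simp [qb] at this⟩
      invFun := fun v => ⟨Matrix.GeneralLinearGroup.mkOfDetNeZero (rot a b v.1)
        (by rw [det_rot]; exact fun h => v.2 (hne _ h)), ⟨v.1, rfl⟩⟩
      left_inv := fun g => by
        obtain ⟨v, hv⟩ := g.2
        apply Subtype.ext; apply Units.ext
        show rot a b (fun i => g.1.1 i 0) = g.1.1
        rw [hv]
        simp [rot]
      right_inv := fun v => by
        apply Subtype.ext; funext i
        show rot a b v.1 i 0 = v.1 i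
        fin_cases i <;> simp [rot] }
  let d : S →* Fˣ := Matrix.GeneralLinearGroup.det.comp S.subtype
  have hd : Function.Surjective d := by
    intro c
    obtain ⟨v, hv⟩ := exists_qb_eq hab (c : F)
    have hv0 : v ≠ 0 := fun h => c.ne_zero (by rw [← hv, h]; simp [qb])
    refine ⟨e.symm ⟨v, hv0⟩, Units.ext ?_⟩
    show (rot a b v).det = _
    rw [det_rot, hv]
  have hk : Nat.card (NormOne a b) = Nat.card d.ker := by
    refine Nat.card_congr
      { toFun := fun v => ⟨e.symm ⟨v.1, fun h => by simpa [h, qb] using v.2⟩, Units.ext ?_⟩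
        invFun := fun g => ⟨(e g.1).1, ?_⟩
        left_inv := fun v => ?_
        right_inv := fun g => ?_ }
    · show (rot a b v.1).det = 1
      rw [det_rot, v.2]
    · obtain ⟨v, hv⟩ := g.1.2
      have h1 : (g.1.1.1).det = 1 := congrArg Units.val g.2
      rw [hv, det_rot] at h1
      show qb a b (fun i => g.1.1.1 i 0) = 1
      rw [hv]
      convert h1 using 2
      funext i; fin_cases i <;> simp [rot]
    · apply Subtype.ext
      show (e (e.symm _)).1 = v.1
      rw [Equiv.apply_symm_apply]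
    · exact Subtype.ext (e.symm_apply_apply g.1)
  have hS : Nat.card S = q ^ 2 - 1 := by
    rw [Nat.card_congr e, Nat.card_eq_fintype_card, Fintype.card_subtype_compl,
      Fintype.card_subtype_eq, Fintype.card_pi, Finset.prod_const, Finset.card_univ,
      Fintype.card_fin, hq]
  have hsplit := Subgroup.card_eq_card_quotient_mul_card_subgroup d.ker
  rw [Nat.card_congr (QuotientGroup.quotientKerEquivOfSurjective d hd).toEquiv, ← hk, hS,
    Nat.card_units, Nat.card_eq_fintype_card, hq] at hsplit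
  have h2 : 2 ≤ q := hq ▸ Fintype.one_lt_card
  refine Nat.eq_of_mul_eq_mul_left (show 0 < q - 1 by omega) (hsplit.symm.trans ?_)
  obtain ⟨k, rfl⟩ : ∃ k, q = k + 1 := ⟨q - 1, by omega⟩
  rw [show (k + 1) ^ 2 = k * (k + 2) + 1 by ring]
  simp

theorem rot_mem {v : Fin 2 → F} (hv : qb a b v = 1) :
    Matrix.GeneralLinearGroup.mkOfDetNeZero (rot a b v) (by rw [det_rot, hv]; exact one_ne_zero)
      ∈ Cfsg.isometryGroup F (qb a b) := by
  intro u w
  show qb a b (rot a b v *ᵥ u) = qb a b u
  rw [qb_rot, hv, one_mul]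

/-- The field conjugation. -/
def conjGL (a : F) : Matrix.GeneralLinearGroup (Fin 2) F :=
  ⟨!![1, a; 0, -1], !![1, a; 0, -1],
    by rw [Matrix.mul_fin_two, Matrix.one_fin_two]; simp,
    by rw [Matrix.mul_fin_two, Matrix.one_fin_two]; simp⟩

theorem conjGL_mem : conjGL a ∈ Cfsg.isometryGroup F (qb a b) := by
  intro u w
  show qb a b (!![1, a; 0, -1] *ᵥ u) = qb a b u
  simp [qb, mulVec_fin_two]
  ring

theorem dihedral_minus [Fintype F] {q : ℕ} (hq : Fintype.card F = q)
    (hab : ∀ z₁ z₂ : F, z₁ ^ 2 + a * z₁ * z₂ + b * z₂ ^ 2 = 0 → z₁ = 0 ∧ z₂ = 0) :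
    Nonempty (Cfsg.isometryGroup F (qb a b) ≃* DihedralGroup (q + 1)) := by
  classical
  let G := Cfsg.isometryGroup F (qb a b)
  let R : Subgroup G :=
    { carrier := {g | g.1.1 = rot a b (fun i => g.1.1 i 0)}
      one_mem' := by
        show (1 : Matrix (Fin 2) (Fin 2) F) = _
        simp [rot, Matrix.one_fin_two]
      mul_mem' := by
        intro g h hg hh
        show g.1.1 * h.1.1 = rot a b (fun i => (g.1.1 * h.1.1) i 0)
        rw [hg, hh, rot_mul]
        congr 1
        funext i
        fin_cases i <;> simp [rot]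
      inv_mem' := by
        intro g hg
        have hq1 : qb a b (fun i => g.1.1 i 0) = 1 := by
          have := g.2 ![1, 0] ![1, 0]
          simpa [qb, mulVec_fin_two] using this
        have hinv : g.1⁻¹.1 = rot a b ![g.1.1 0 0 + a * g.1.1 1 0, -g.1.1 1 0] := by
          rw [Matrix.coe_units_inv]
          refine Matrix.inv_eq_right_inv ?_
          rw [hg, rot_mul, ← rot_one (a := a) (b := b)]
          congr 1
          simp only [qb] at hq1
          funext i
          fin_cases i
          · simp [rot, mulVec_fin_two]; linear_combination hq1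
          · simp [rot, mulVec_fin_two]; ring
        show g.1⁻¹.1 = rot a b (fun i => g.1⁻¹.1 i 0)
        rw [hinv]
        simp [rot] }
  have hR : Nat.card R = q + 1 := by
    rw [← card_normOne hq hab]
    refine Nat.card_congr
      { toFun := fun g => ⟨fun i => g.1.1.1 i 0, ?_⟩
        invFun := fun v => ⟨⟨_, rot_mem v.2⟩, ?_⟩
        left_inv := fun g => ?_
        right_inv := fun v => ?_ }
    · have := g.1.2 ![1, 0] ![1, 0]
      simpa [qb, mulVec_fin_two] using this
    · show rot a b v.1 = rot a b _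
      simp [rot]
    · apply Subtype.ext; apply Subtype.ext; apply Units.ext
      exact g.2.symm
    · apply Subtype.ext; funext i
      show rot a b v.1 i 0 = v.1 i
      fin_cases i <;> simp [rot]
  obtain ⟨ω, hω⟩ : ∃ ω : AlgebraicClosure F,
      ω ^ 2 - algebraMap F _ a * ω + algebraMap F _ b = 0 := by
    obtain ⟨ω, hω⟩ := IsAlgClosed.exists_root
      (Polynomial.C 1 * Polynomial.X ^ 2 + Polynomial.C (-algebraMap F (AlgebraicClosure F) a) *
        Polynomial.X + Polynomial.C (algebraMap F (AlgebraicClosure F) b))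
      (by rw [Polynomial.degree_quadratic one_ne_zero]; decide)
    refine ⟨ω, ?_⟩
    simp at hω
    linear_combination hω
  let χ : R →* AlgebraicClosure F :=
    { toFun := fun g => algebraMap F _ (g.1.1.1 0 0) + algebraMap F _ (g.1.1.1 1 0) * ω
      map_one' := by simp
      map_mul' := by
        intro g h
        have hh : (g * h).1.1.1 = g.1.1.1 * h.1.1.1 := rfl
        rw [hh, g.2, h.2, rot_mul]
        simp only [rot, mulVec_fin_two, Matrix.of_apply, Matrix.cons_val', Matrix.cons_val_zero,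
          Matrix.cons_val_one, Matrix.empty_val', Matrix.cons_val_fin_one, map_add, map_mul,
          map_neg]
        linear_combination (-(algebraMap F (AlgebraicClosure F) (g.1.1.1 1 0)) *
          algebraMap F (AlgebraicClosure F) (h.1.1.1 1 0)) * hω }
  have hχ : Function.Injective χ := by
    intro g h hgh
    have key : ∀ x y : F, algebraMap F (AlgebraicClosure F) x + algebraMap F _ y * ω = 0 →
        x = 0 ∧ y = 0 := by
      intro x y hxy
      by_cases hy : y = 0
      · simp [hy] at hxy; exact ⟨hxy, hy⟩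
      exfalso
      have hω' : ω = algebraMap F _ (-x / y) := by
        have hy' : algebraMap F (AlgebraicClosure F) y ≠ 0 := by simpa using hy
        rw [map_div₀, map_neg, eq_div_iff hy']
        linear_combination hxy
      rw [hω', ← map_pow, ← map_mul, ← map_sub, ← map_add, map_eq_zero] at hω
      exact one_ne_zero (hab (-(-x / y)) 1 (by linear_combination hω)).2
    have h' : algebraMap F (AlgebraicClosure F) (g.1.1.1 0 0 - h.1.1.1 0 0) +
        algebraMap F _ (g.1.1.1 1 0 - h.1.1.1 1 0) * ω = 0 := by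
      rw [map_sub, map_sub]
      have hgh' : algebraMap F (AlgebraicClosure F) (g.1.1.1 0 0) +
        algebraMap F _ (g.1.1.1 1 0) * ω = algebraMap F _ (h.1.1.1 0 0) +
        algebraMap F _ (h.1.1.1 1 0) * ω := hgh
      linear_combination hgh'
    obtain ⟨h0, h1⟩ := key _ _ h'
    apply Subtype.ext; apply Subtype.ext; apply Units.ext
    rw [g.2, h.2]
    congr 1
    funext i; fin_cases i
    · exact sub_eq_zero.mp h0
    · exact sub_eq_zero.mp h1
  have : Finite R := Nat.finite_of_card_ne_zero (by omega)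
  have : IsCyclic R := isCyclic_of_subgroup_isDomain χ hχ
  obtain ⟨t, ht⟩ := IsCyclic.exists_generator (α := R)
  let s : G := ⟨conjGL a, conjGL_mem⟩
  have hsR : s ∉ R := by
    intro h
    have := congrArg (fun M : Matrix (Fin 2) (Fin 2) F => M 1 1) h
    simp [s, conjGL, rot] at this
    have h01 := congrArg (fun M : Matrix (Fin 2) (Fin 2) F => M 0 1) h
    simp [s, conjGL, rot] at h01
    exact disc_ne hab (by linear_combination (-2 * b) * this - a * h01)
  have hss : s * s = 1 := by
    apply Subtype.ext; apply Units.ext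
    show !![1, a; 0, -1] * !![1, a; 0, -1] = (1 : Matrix (Fin 2) (Fin 2) F)
    rw [Matrix.mul_fin_two, Matrix.one_fin_two]; simp
  have hinv : s * (t : G) * s = (t : G)⁻¹ := by
    rw [eq_inv_iff_mul_eq_one]
    apply Subtype.ext; apply Units.ext
    show !![1, a; 0, -1] * t.1.1.1 * !![1, a; 0, -1] * t.1.1.1 = (1 : Matrix (Fin 2) (Fin 2) F)
    have h1 : qb a b (fun i => t.1.1.1 i 0) = 1 := by
      have := t.1.2 ![1, 0] ![1, 0]
      simpa [qb, mulVec_fin_two] using this
    simp only [qb] at h1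
    rw [show t.1.1.1 = rot a b (fun i => t.1.1.1 i 0) from t.2]
    simp only [rot, Matrix.mul_fin_two, Matrix.one_fin_two]
    ext i j
    fin_cases i <;> fin_cases j <;> simp <;>
      first | linear_combination h1 | linear_combination (0 : F) * h1
  refine dihedral_of (r := (t : G)) (s := s) ?_ hss ?_ hinv ?_
  · rw [Subgroup.orderOf_coe, orderOf_eq_card_of_forall_mem_zpowers ht, hR]
  · intro k h
    exact hsR (h ▸ zpow_mem t.2 k)
  · intro g
    have hR' : ∀ x : R, ∃ k : ℤ, (x : G) = (t : G) ^ k := fun x => by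
      obtain ⟨k, hk⟩ := Subgroup.mem_zpowers_iff.mp (ht x)
      exact ⟨k, by rw [← hk]; rfl⟩
    have hQ : ∀ v, qb a b (g.1.1 *ᵥ v) = qb a b v := fun v => g.2 v v
    have h10 : qb a b (fun i => g.1.1 i 0) = 1 := by
      simpa [qb, mulVec_fin_two] using hQ ![1, 0]
    let ρ : G := ⟨_, rot_mem h10⟩
    have hρ : ρ ∈ R := by
      show rot a b (fun i => g.1.1 i 0) = rot a b (fun i => rot a b (fun i => g.1.1 i 0) i 0)
      simp [rot]
    obtain ⟨h, hh⟩ : ∃ h : G, h = ρ⁻¹ * g := ⟨_, rfl⟩
    have hcol : ∀ i, h.1.1 i 0 = (1 : Matrix (Fin 2) (Fin 2) F) i 0 := by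
      intro i
      have hg : g.1.1 = ρ.1.1 * h.1.1 := by
        rw [hh]; exact (congrArg (fun z : G => z.1.1) (mul_inv_cancel_left ρ g)).symm
      have hu : ρ.1⁻¹.1 * g.1.1 = h.1.1 := by
        rw [hg, ← Matrix.mul_assoc, ← Units.val_mul, inv_mul_cancel, Units.val_one, Matrix.one_mul]
      have hcg : ∀ j, ρ.1.1 j 0 = g.1.1 j 0 := fun j => by
        show rot a b (fun i => g.1.1 i 0) j 0 = g.1.1 j 0
        fin_cases j <;> simp [rot]
      rw [← hu, Matrix.mul_apply]
      simp only [← hcg]
      rw [← Matrix.mul_apply, ← Units.val_mul, inv_mul_cancel, Units.val_one]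
    have hQh : ∀ v, qb a b (h.1.1 *ᵥ v) = qb a b v := fun v => h.2 v v
    have h00 : h.1.1 0 0 = 1 := by simpa using hcol 0
    have h10' : h.1.1 1 0 = 0 := by simpa using hcol 1
    have e1 := hQh ![0, 1]
    have e2 := hQh ![1, 1]
    simp [qb, mulVec_fin_two, h00, h10'] at e1 e2
    set u := h.1.1 0 1 with hu
    set w := h.1.1 1 1 with hw
    have hlin : 2 * u = a * (1 - w) := by linear_combination e2 - e1
    have hw2 : w * w = 1 := by
      have : (4 * b - a ^ 2) * (w * w - 1) = 0 := by
        linear_combination 4 * e1 - (2 * u + a * (1 + w)) * hlin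
      exact sub_eq_zero.mp ((mul_eq_zero.mp this).resolve_left (disc_ne hab))
    have hdih : (u = 0 ∧ w = 1) ∨ (u = a ∧ w = -1) := by
      rcases mul_self_eq_one_iff.mp hw2 with hw1 | hw1
      · have : u * (u + a) = 0 := by
          rw [hw1] at e1; linear_combination e1
        rcases mul_eq_zero.mp this with h0 | h0
        · exact Or.inl ⟨h0, hw1⟩
        · rw [hw1] at hlin
          have h2a : 2 * a = 0 := by linear_combination 2 * h0 - hlin
          rcases mul_eq_zero.mp h2a with h2 | ha
          · exact Or.inr ⟨by linear_combination h0 - a * h2, by rw [hw1]; linear_combination h2⟩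
          · exact Or.inl ⟨by linear_combination h0 - ha, hw1⟩
      · have : u * (u - a) = 0 := by
          rw [hw1] at e1; linear_combination e1
        rcases mul_eq_zero.mp this with h0 | h0
        · rw [hw1, h0] at hlin
          have h2a : 2 * a = 0 := by linear_combination -hlin
          rcases mul_eq_zero.mp h2a with h2 | ha
          · exact Or.inl ⟨h0, by rw [hw1]; linear_combination -h2⟩
          · exact Or.inr ⟨by rw [h0, ha], hw1⟩
        · exact Or.inr ⟨sub_eq_zero.mp h0, hw1⟩
    obtain ⟨k, hk⟩ := hR' ⟨ρ, hρ⟩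
    have hg : g = ρ * h := by rw [hh, mul_inv_cancel_left]
    rcases hdih with ⟨hu0, hw1⟩ | ⟨hu0, hw1⟩
    · refine ⟨k, Or.inl ?_⟩
      have h1 : h = 1 := by
        apply Subtype.ext; apply Units.ext
        show h.1.1 = (1 : Matrix (Fin 2) (Fin 2) F)
        rw [Matrix.eta_fin_two h.1.1, h00, h10', ← hu, ← hw, hu0, hw1, Matrix.one_fin_two]
      rw [hg, h1, mul_one]; exact hk
    · have h1 : h = s := by
        apply Subtype.ext; apply Units.ext
        show h.1.1 = !![1, a; 0, -1]
        rw [Matrix.eta_fin_two h.1.1, h00, h10', ← hu, ← hw, hu0, hw1]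
      refine ⟨-k, Or.inr ?_⟩
      rw [hg, h1, show (ρ : G) = (t : G) ^ k from hk]
      exact Involutions.Basic.invert_comm hss hinv k

end Cfsg.Agent.Lib.OrthTwo.Binary
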